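import Cfsg.Agent.H793.RIM.L34B
import Cfsg.Agent.H199.RIM.OutB
import Cfsg.Agent.Lib.GenFitting
import Cfsg.Agent.H20.LF.Cent
import Cfsg.Agent.H20.LF.NineQ

/-!
# S5917: the group side (helper20)

* `b34_psl` : the facts `B34` for `PSL(3,4)`;
* `glue` : the embedding `f` of `PSL(3,4)` with image `F*(H)`, the automorphisms induced by `H`, `C_H(f) = 1`, and `|C_H(f(E))|`
  divides `108` for `|E| = 9`.
-/

set_option autoImplicit false
set_option linter.unusedSectionVars false

namespace Cfsg.Agent.H20.LF

open Subgroup Cfsg Cfsg.Agent.H793.RIM Matrix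

universe u v

theorem b34_congr {S : Type u} {T : Type v} [Group S] [Group T] (e : S ≃* T) (h : B34 S) : B34 T where
  card := by rw [← Nat.card_congr e.toEquiv]; exact h.card
  simple := by
    have := h.simple
    exact e.symm.isSimpleGroup
  ord x := by
    have h1 := h.ord (e.symm x)
    rwa [MulEquiv.orderOf_eq] at h1
  two T' P hT hP hle := by
    refine h.two (T'.map e.symm.toMonoidHom) (P.map e.symm.toMonoidHom) ?_ ?_ ?_
    · rw [Subgroup.card_map_of_injective e.symm.injective, hT]
    · rw [Subgroup.card_map_of_injective e.symm.injective, hP]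
    · exact (Subgroup.map_mono hle).trans (Subgroup.le_normalizer_map _)

theorem b34_psl {F : Type v} [Field F] [Fintype F] (hF : Fintype.card F = 4) :
    B34 (ProjectiveSpecialLinearGroup (Fin 3) F) := by
  obtain ⟨f⟩ := SporadicA.FieldFour.nonempty_psl_equiv (n := Fin 3) F hF
  exact b34_congr f b34

theorem na_of_b34 {S : Type u} [Group S] (h : B34 S) : ¬ IsMulCommutative S := by
  intro hc
  have hfin := h.finite
  have hs := h.simple
  have : Fact (Nat.Prime 3) := ⟨Nat.prime_three⟩
  obtain ⟨x, hx⟩ := exists_prime_orderOf_dvd_card' (G := S) 3 (by rw [h.card]; norm_num)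
  have h1 : (zpowers x).Normal := ⟨fun n hn g => by
    rw [hc.is_comm.comm g n, mul_inv_cancel_right]
    exact hn⟩
  rcases h1.eq_bot_or_eq_top with h2 | h2
  · have := Nat.card_zpowers x
    rw [h2, hx] at this
    simp at this
  · have := Nat.card_zpowers x
    rw [h2, hx, Subgroup.card_top, h.card] at this
    norm_num at this

/-- **The group side.** -/
theorem glue {F : Type v} [Field F] [Fintype F] (hF : Fintype.card F = 4) {G : Type u} [Group G] [Finite G] (H : Subgroup G)
    (e : ↥(generalizedFittingSubgroup ↥H) ≃* ProjectiveSpecialLinearGroup (Fin 3) F) :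
    ∃ f : ProjectiveSpecialLinearGroup (Fin 3) F →* G, Function.Injective f ∧ (∀ s, f s ∈ H) ∧
      (∀ h ∈ H, ∃ τ : ProjectiveSpecialLinearGroup (Fin 3) F ≃* ProjectiveSpecialLinearGroup (Fin 3) F,
        ∀ s, f (τ s) = h * f s * h⁻¹) ∧
      (∀ h ∈ H, (∀ s, h * f s = f s * h) → h = 1) ∧
      (∀ E : Subgroup (ProjectiveSpecialLinearGroup (Fin 3) F), Nat.card E = 9 →
        Nat.card ↥(H ⊓ centralizer ((E.map f : Subgroup G) : Set G)) ∣ 108) ∧
      Nat.card H ∣ 12 * 20160 := by
  set S : Subgroup ↥H := generalizedFittingSubgroup ↥H with hSdef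
  have hn : S.Normal := Lib.GenFitting.genFitting_normal
  have hB := b34_psl hF
  have hBS : B34 S := b34_congr e.symm hB
  have hna := na_of_b34 hBS
  have hs := hBS.simple
  have hI : (MulAut.conj : S →* MulAut S).range.index = 12 := Cfsg.Agent.H199.RIM.idx_l34 hna hF e
  have hC : centralizer (S : Set ↥H) = ⊥ := by
    have h1 : centralizer (S : Set ↥H) ≤ S := Lib.GenFitting.centralizer_genFitting_le
    rw [Subgroup.eq_bot_iff_forall]
    intro x hx
    have h2 : (⟨x, h1 hx⟩ : S) ∈ center S := by
      rw [mem_center_iff]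
      intro y
      exact Subtype.ext (mem_centralizer_iff.1 hx y y.2)
    have h3 : center S = ⊥ := by
      rcases (inferInstance : (center S).Normal).eq_bot_or_eq_top with h | h
      · exact h
      · exfalso
        apply hna
        refine ⟨⟨fun a b => ?_⟩⟩
        have : b ∈ center S := by rw [h]; trivial
        exact mem_center_iff.1 this a
    rw [h3, mem_bot] at h2
    exact congrArg Subtype.val h2
  let f₀ : ProjectiveSpecialLinearGroup (Fin 3) F →* ↥H := S.subtype.comp e.symm.toMonoidHom
  have hf₀ : Function.Injective f₀ := (Subgroup.subtype_injective S).comp e.symm.injective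
  have hr : ∀ x ∈ S, ∃ s, f₀ s = x := fun x hx => ⟨e ⟨x, hx⟩, by simp [f₀]⟩
  have hm : ∀ s, f₀ s ∈ S := fun s => (e.symm s).2
  refine ⟨H.subtype.comp f₀, (Subgroup.subtype_injective H).comp hf₀, fun s => (f₀ s).2, ?_, ?_, ?_, ?_⟩
  · intro h hh
    let h' : ↥H := ⟨h, hh⟩
    refine ⟨(e.symm.trans (MulAut.conjNormal h' : MulAut S)).trans e, fun s => ?_⟩
    change ((e.symm (e (MulAut.conjNormal h' (e.symm s))) : S) : G) = _
    rw [MulEquiv.symm_apply_apply, MulAut.conjNormal_apply]
    rfl
  · intro h hh hc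
    have h1 : (⟨h, hh⟩ : ↥H) ∈ centralizer (S : Set ↥H) := by
      rw [mem_centralizer_iff]
      intro x hx
      obtain ⟨s, rfl⟩ := hr x hx
      exact Subtype.ext (hc s).symm
    rw [hC, mem_bot] at h1
    exact congrArg Subtype.val h1
  · intro E hE
    have h1 := card_cent_dvd S hBS hC hI (E := E.map f₀) (by rintro _ ⟨s, -, rfl⟩; exact hm s)
      (by rw [Subgroup.card_map_of_injective hf₀, hE])
    have h2 : H ⊓ centralizer ((E.map (H.subtype.comp f₀) : Subgroup G) : Set G) =
        (centralizer ((E.map f₀ : Subgroup ↥H) : Set ↥H)).map H.subtype := by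
      ext x
      constructor
      · rintro ⟨hx, hx2⟩
        refine ⟨⟨x, hx⟩, ?_, rfl⟩
        rw [SetLike.mem_coe, mem_centralizer_iff]
        rintro _ ⟨s, hs', rfl⟩
        exact Subtype.ext (mem_centralizer_iff.1 hx2 _ ⟨s, hs', rfl⟩)
      · rintro ⟨x, hx, rfl⟩
        refine ⟨x.2, mem_centralizer_iff.2 ?_⟩
        rintro _ ⟨s, hs', rfl⟩
        exact congrArg Subtype.val (mem_centralizer_iff.1 hx _ ⟨s, hs', rfl⟩)
    rw [h2, Subgroup.card_map_of_injective (Subgroup.subtype_injective H)]
    exact h1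
  · have h1 := card_index_dvd S hC
    rw [hI] at h1
    rw [← S.index_mul_card, hBS.card]
    exact Nat.mul_dvd_mul_right h1 _

end Cfsg.Agent.H20.LF
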