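import Cfsg.Agent.H691.L34.Def
import Cfsg.Agent.H204.L34.Rank
import Cfsg.Agent.LieClassical.SLGen

/-!
# S5917, S-side of type D: a vector fixed by the unitary group modulo a nine-dimensional submodule (helper20)

`alpha` : `W` of type 9, `ρ g m + m ∈ W` for all `g`, `m` fixed by the unitary group `R`; then `m + w` is fixed by all of
`SL₃(4)` for some `R`-fixed `w ∈ W`.
The element `u = 1 + ω a aᵀ`, `a = (0,1,1)` commutes with the quaternion group in `R`; `ρ u m + m` is a hermitian matrix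
fixed by the quaternion group and by `u`, so it is `0` or `a aᵀ`; and `R`, `u` generate.
-/

set_option autoImplicit false
set_option linter.unusedSectionVars false

namespace Cfsg.Agent.H20.LF

open Matrix Cfsg.Agent.H691.L34

variable {F : Type} [Field F]

section field
variable [Fintype F]

theorem two_z (hF : Fintype.card F = 4) : (2 : F) = 0 := by
  have h := FiniteField.cast_card_eq_zero F
  rw [hF] at h
  have h' : (2 : F) * 2 = 0 := by
    push_cast at h
    linear_combination h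
  rcases mul_eq_zero.1 h' with h | h <;> exact h

theorem pow_4 (hF : Fintype.card F = 4) (a : F) : a ^ 4 = a := by
  have := FiniteField.pow_card a
  rwa [hF] at this

theorem exists_om (hF : Fintype.card F = 4) : ∃ w : F, w ^ 2 + w + 1 = 0 := by
  classical
  have h : ∃ w : F, w ∉ ({0, 1} : Finset F) := by
    by_contra hcon
    push Not at hcon
    have : Finset.univ ⊆ ({0, 1} : Finset F) := fun w _ => hcon w
    have h2 := Finset.card_le_card this
    rw [Finset.card_univ, hF] at h2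
    have := Finset.card_le_two (a := (0 : F)) (b := 1)
    omega
  obtain ⟨w, hw⟩ := h
  simp only [Finset.mem_insert, Finset.mem_singleton, not_or] at hw
  refine ⟨w, ?_⟩
  have h4 := pow_4 hF w
  have : w * ((w - 1) * (w ^ 2 + w + 1)) = 0 := by linear_combination h4
  rcases mul_eq_zero.1 this with h | h
  · exact absurd h hw.1
  · rcases mul_eq_zero.1 h with h | h
    · exact absurd (sub_eq_zero.1 h) hw.2
    · exact h

theorem four_c (hF : Fintype.card F = 4) {w : F} (hw : w ^ 2 + w + 1 = 0) (x : F) :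
    x = 0 ∨ x = 1 ∨ x = w ∨ x = 1 + w := by
  have h4 := pow_4 hF x
  have h2 := two_z hF
  have : x * ((x - 1) * ((x - w) * (x - (1 + w)))) = 0 := by
    grind
  rcases mul_eq_zero.1 this with h | h
  · exact Or.inl h
  rcases mul_eq_zero.1 h with h | h
  · exact Or.inr (Or.inl (sub_eq_zero.1 h))
  rcases mul_eq_zero.1 h with h | h
  · exact Or.inr (Or.inr (Or.inl (sub_eq_zero.1 h)))
  · exact Or.inr (Or.inr (Or.inr (sub_eq_zero.1 h)))

end field

/-! ### the elements -/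

theorem hact_ap (g : G3 F) (X : M3 F) (i j : Fin 3) : hact g X i j =
    (g.1 i 0 * X 0 0 + g.1 i 1 * X 1 0 + g.1 i 2 * X 2 0) * (g.1 j 0) ^ 2 +
    (g.1 i 0 * X 0 1 + g.1 i 1 * X 1 1 + g.1 i 2 * X 2 1) * (g.1 j 1) ^ 2 +
    (g.1 i 0 * X 0 2 + g.1 i 1 * X 1 2 + g.1 i 2 * X 2 2) * (g.1 j 2) ^ 2 := by
  show ((g.1 * X) * ct g.1) i j = _
  rw [Matrix.mul_apply, Fin.sum_univ_three]
  simp only [Matrix.mul_apply, Fin.sum_univ_three, ct, Matrix.transpose_apply, Matrix.map_apply]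

theorem mul3' (g h : G3 F) (i j : Fin 3) : (g * h).1 i j = g.1 i 0 * h.1 0 j + g.1 i 1 * h.1 1 j + g.1 i 2 * h.1 2 j := by
  show (g.1 * h.1) i j = _
  rw [Matrix.mul_apply, Fin.sum_univ_three]

theorem ext3' {g h : G3 F} (H : ∀ i j, g.1 i j = h.1 i j) : g = h := Subtype.ext (Matrix.ext H)

variable {w : F}

/-- `1 + s a aᵀ` -/
def tr1 (h2 : (2 : F) = 0) (s : F) : G3 F := ⟨!![1, 0, 0; 0, 1 + s, s; 0, s, 1 + s], by
  simp [Matrix.det_fin_three]; grind⟩

def qi (h2 : (2 : F) = 0) (hw : w ^ 2 + w + 1 = 0) : G3 F := ⟨!![1, 1, 1; 1, w, w ^ 2; 1, w ^ 2, w], by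
  simp [Matrix.det_fin_three]; grind⟩

def qj (h2 : (2 : F) = 0) (hw : w ^ 2 + w + 1 = 0) : G3 F := ⟨!![1, w, w; w ^ 2, w, w ^ 2; w ^ 2, w ^ 2, w], by
  simp [Matrix.det_fin_three]; grind⟩

/-- swap of the first two coordinates -/
def n0 (h2 : (2 : F) = 0) : G3 F := ⟨!![0, 1, 0; 1, 0, 0; 0, 0, 1], by
  simp [Matrix.det_fin_three]; grind⟩

/-- `diag(ω², 1, ω)` -/
def dg (h2 : (2 : F) = 0) (hw : w ^ 2 + w + 1 = 0) : G3 F := ⟨!![w ^ 2, 0, 0; 0, 1, 0; 0, 0, w], by
  simp [Matrix.det_fin_three]; grind⟩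

/-- `diag(ω, 1, ω²)` -/
def dg' (h2 : (2 : F) = 0) (hw : w ^ 2 + w + 1 = 0) : G3 F := ⟨!![w, 0, 0; 0, 1, 0; 0, 0, w ^ 2], by
  simp [Matrix.det_fin_three]; grind⟩

theorem un_tr (h2 : (2 : F) = 0) : hact (tr1 h2 1) (1 : M3 F) = 1 := by
  ext i j
  rw [hact_ap]
  fin_cases i <;> fin_cases j <;> simp [tr1] <;> grind

theorem un_qi (h2 : (2 : F) = 0) (hw : w ^ 2 + w + 1 = 0) : hact (qi h2 hw) (1 : M3 F) = 1 := by
  ext i j
  rw [hact_ap]
  fin_cases i <;> fin_cases j <;> simp [qi] <;> grind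

theorem un_qj (h2 : (2 : F) = 0) (hw : w ^ 2 + w + 1 = 0) : hact (qj h2 hw) (1 : M3 F) = 1 := by
  ext i j
  rw [hact_ap]
  fin_cases i <;> fin_cases j <;> simp [qj] <;> grind

theorem un_n0 (h2 : (2 : F) = 0) : hact (n0 h2) (1 : M3 F) = 1 := by
  ext i j
  rw [hact_ap]
  fin_cases i <;> fin_cases j <;> simp [n0]

theorem un_dg (h2 : (2 : F) = 0) (hw : w ^ 2 + w + 1 = 0) : hact (dg h2 hw) (1 : M3 F) = 1 := by
  ext i j
  rw [hact_ap]
  fin_cases i <;> fin_cases j <;> simp [dg] <;> grind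

theorem un_dg' (h2 : (2 : F) = 0) (hw : w ^ 2 + w + 1 = 0) : hact (dg' h2 hw) (1 : M3 F) = 1 := by
  ext i j
  rw [hact_ap]
  fin_cases i <;> fin_cases j <;> simp [dg'] <;> grind

theorem tr_tr (h2 : (2 : F) = 0) (s t : F) : tr1 h2 s * tr1 h2 t = tr1 h2 (s + t) := by
  refine ext3' fun i j => ?_
  simp only [mul3']
  fin_cases i <;> fin_cases j <;> simp [tr1] <;> grind

theorem tr_zero (h2 : (2 : F) = 0) : tr1 h2 0 = 1 := by
  apply Subtype.ext
  show _ = (1 : M3 F)
  ext i j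
  fin_cases i <;> fin_cases j <;> simp [tr1]

theorem qi_tr (h2 : (2 : F) = 0) (hw : w ^ 2 + w + 1 = 0) (s : F) : qi h2 hw * tr1 h2 s = tr1 h2 s * qi h2 hw := by
  refine ext3' fun i j => ?_
  simp only [mul3']
  fin_cases i <;> fin_cases j <;> simp [tr1, qi] <;> grind

theorem qj_tr (h2 : (2 : F) = 0) (hw : w ^ 2 + w + 1 = 0) (s : F) : qj h2 hw * tr1 h2 s = tr1 h2 s * qj h2 hw := by
  refine ext3' fun i j => ?_
  simp only [mul3']
  fin_cases i <;> fin_cases j <;> simp [tr1, qj] <;> grind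

/-- the transvection `(1,2)` -/
theorem word12 (h2 : (2 : F) = 0) (hw : w ^ 2 + w + 1 = 0) (c : F) (h : (1 : Fin 3) ≠ 2) :
    Matrix.SpecialLinearGroup.transvection h c =
      (dg h2 hw * tr1 h2 w * dg' h2 hw) * tr1 h2 (w * c) * (dg h2 hw * tr1 h2 w * dg' h2 hw) := by
  refine ext3' fun i j => ?_
  simp only [mul3']
  fin_cases i <;> fin_cases j <;> simp [Matrix.SpecialLinearGroup.transvection, Matrix.transvection, Matrix.single,
    tr1, dg, dg'] <;> grind

theorem word21 (h2 : (2 : F) = 0) (c : F) (h : (1 : Fin 3) ≠ 2) (h' : (2 : Fin 3) ≠ 1) :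
    Matrix.SpecialLinearGroup.transvection h' c =
      tr1 h2 1 * Matrix.SpecialLinearGroup.transvection h c * tr1 h2 1 := by
  refine ext3' fun i j => ?_
  simp only [mul3']
  fin_cases i <;> fin_cases j <;> simp [Matrix.SpecialLinearGroup.transvection, Matrix.transvection, Matrix.single,
    tr1] <;> grind

theorem word02 (h2 : (2 : F) = 0) (c : F) (h : (1 : Fin 3) ≠ 2) (h' : (0 : Fin 3) ≠ 2) :
    Matrix.SpecialLinearGroup.transvection h' c =
      n0 h2 * Matrix.SpecialLinearGroup.transvection h c * n0 h2 := by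
  refine ext3' fun i j => ?_
  simp only [mul3']
  fin_cases i <;> fin_cases j <;> simp [Matrix.SpecialLinearGroup.transvection, Matrix.transvection, Matrix.single,
    n0]

theorem word20 (h2 : (2 : F) = 0) (c : F) (h : (2 : Fin 3) ≠ 1) (h' : (2 : Fin 3) ≠ 0) :
    Matrix.SpecialLinearGroup.transvection h' c =
      n0 h2 * Matrix.SpecialLinearGroup.transvection h c * n0 h2 := by
  refine ext3' fun i j => ?_
  simp only [mul3']
  fin_cases i <;> fin_cases j <;> simp [Matrix.SpecialLinearGroup.transvection, Matrix.transvection, Matrix.single,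
    n0]

theorem word01 (h2 : (2 : F) = 0) (c : F) (h : (0 : Fin 3) ≠ 2) (h' : (0 : Fin 3) ≠ 1) :
    Matrix.SpecialLinearGroup.transvection h' c =
      tr1 h2 1 * Matrix.SpecialLinearGroup.transvection h c * tr1 h2 1 := by
  refine ext3' fun i j => ?_
  simp only [mul3']
  fin_cases i <;> fin_cases j <;> simp [Matrix.SpecialLinearGroup.transvection, Matrix.transvection, Matrix.single,
    tr1] <;> grind

theorem word10 (h2 : (2 : F) = 0) (c : F) (h : (2 : Fin 3) ≠ 0) (h' : (1 : Fin 3) ≠ 0) :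
    Matrix.SpecialLinearGroup.transvection h' c =
      tr1 h2 1 * Matrix.SpecialLinearGroup.transvection h c * tr1 h2 1 := by
  refine ext3' fun i j => ?_
  simp only [mul3']
  fin_cases i <;> fin_cases j <;> simp [Matrix.SpecialLinearGroup.transvection, Matrix.transvection, Matrix.single,
    tr1] <;> grind

/-- **the unitary group and `u` generate** -/
theorem gen [Fintype F] (hF : Fintype.card F = 4) (h2 : (2 : F) = 0) (hw : w ^ 2 + w + 1 = 0) (K : Subgroup (G3 F))
    (hR : ∀ g, hact g (1 : M3 F) = 1 → g ∈ K) (hu : tr1 h2 w ∈ K) : K = ⊤ := by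
  have ht : ∀ s, tr1 h2 s ∈ K := by
    intro s
    rcases four_c hF hw s with rfl | rfl | rfl | rfl
    · rw [tr_zero]
      exact K.one_mem
    · exact hR _ (un_tr h2)
    · exact hu
    · rw [← tr_tr]
      exact K.mul_mem (hR _ (un_tr h2)) hu
  have h1 : tr1 h2 1 ∈ K := ht 1
  have h0 : n0 h2 ∈ K := hR _ (un_n0 h2)
  have e12 : ∀ (h : (1 : Fin 3) ≠ 2) (c : F), Matrix.SpecialLinearGroup.transvection h c ∈ K := by
    intro h c
    rw [word12 h2 hw]
    have hg : dg h2 hw * tr1 h2 w * dg' h2 hw ∈ K :=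
      K.mul_mem (K.mul_mem (hR _ (un_dg h2 hw)) hu) (hR _ (un_dg' h2 hw))
    exact K.mul_mem (K.mul_mem hg (ht _)) hg
  have e21 : ∀ (h : (2 : Fin 3) ≠ 1) (c : F), Matrix.SpecialLinearGroup.transvection h c ∈ K := by
    intro h c
    rw [word21 h2 c (by decide) h]
    exact K.mul_mem (K.mul_mem h1 (e12 _ _)) h1
  have e02 : ∀ (h : (0 : Fin 3) ≠ 2) (c : F), Matrix.SpecialLinearGroup.transvection h c ∈ K := by
    intro h c
    rw [word02 h2 c (by decide) h]
    exact K.mul_mem (K.mul_mem h0 (e12 _ _)) h0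
  have e20 : ∀ (h : (2 : Fin 3) ≠ 0) (c : F), Matrix.SpecialLinearGroup.transvection h c ∈ K := by
    intro h c
    rw [word20 h2 c (by decide) h]
    exact K.mul_mem (K.mul_mem h0 (e21 _ _)) h0
  have e01 : ∀ (h : (0 : Fin 3) ≠ 1) (c : F), Matrix.SpecialLinearGroup.transvection h c ∈ K := by
    intro h c
    rw [word01 h2 c (by decide) h]
    exact K.mul_mem (K.mul_mem h1 (e02 _ _)) h1
  have e10 : ∀ (h : (1 : Fin 3) ≠ 0) (c : F), Matrix.SpecialLinearGroup.transvection h c ∈ K := by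
    intro h c
    rw [word10 h2 c (by decide) h]
    exact K.mul_mem (K.mul_mem h1 (e20 _ _)) h1
  rw [eq_top_iff, ← LieClassical.SLGen.closure_transvections, Subgroup.closure_le]
  have key : ∀ (i j : Fin 3) (hij : i ≠ j) (c : F), Matrix.SpecialLinearGroup.transvection hij c ∈ K := by
    intro i j hij c
    have hm : ((i = 0 ∧ j = 1) ∨ (i = 0 ∧ j = 2) ∨ (i = 1 ∧ j = 2)) ∨
        ((i = 1 ∧ j = 0) ∨ (i = 2 ∧ j = 0) ∨ (i = 2 ∧ j = 1)) := by
      revert i j
      decide
    rcases hm with (⟨rfl, rfl⟩ | ⟨rfl, rfl⟩ | ⟨rfl, rfl⟩) | (⟨rfl, rfl⟩ | ⟨rfl, rfl⟩ | ⟨rfl, rfl⟩)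
    · exact e01 _ _
    · exact e02 _ _
    · exact e12 _ _
    · exact e10 _ _
    · exact e20 _ _
    · exact e21 _ _
  rintro A ⟨i, j, hij, c, rfl⟩
  exact key i j hij c

/-- `a aᵀ` -/
def TT1 : M3 F := !![0, 0, 0; 0, 1, 1; 0, 1, 1]

theorem HF_TT1 : HF (TT1 : M3 F) := by
  show ct _ = _
  ext i j
  fin_cases i <;> fin_cases j <;> simp [TT1, ct]

theorem HF_1 : HF (1 : M3 F) := by
  show ct _ = _
  ext i j
  fin_cases i <;> fin_cases j <;> simp [ct]

theorem hact_u_one (h2 : (2 : F) = 0) (hw : w ^ 2 + w + 1 = 0) : hact (tr1 h2 w) (1 : M3 F) = 1 + TT1 := by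
  ext i j
  rw [hact_ap]
  fin_cases i <;> fin_cases j <;> simp [tr1, TT1] <;> grind

/-- the hermitian matrices fixed by the quaternion group and by `u` -/
theorem herm_fix (h2 : (2 : F) = 0) (hw : w ^ 2 + w + 1 = 0) {X : M3 F} (hX : HF X) (h1 : hact (tr1 h2 1) X = X)
    (hi : hact (qi h2 hw) X = X) (hj : hact (qj h2 hw) X = X) (hu : hact (tr1 h2 w) X = X) : X = 0 ∨ X = TT1 := by
  have e : ∀ i j, (X j i) ^ 2 = X i j := fun i j => congrFun (congrFun hX i) j
  have e00 := e 0 0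
  have e11 := e 1 1
  have e22 := e 2 2
  have e10 := e 1 0
  have e20 := e 2 0
  have e21 := e 2 1
  have e12 := e 1 2
  have e01 := e 0 1
  have z02 := congrFun (congrFun h1 0) 2
  have z11 := congrFun (congrFun h1 1) 1
  have z12 := congrFun (congrFun h1 1) 2
  have i01 := congrFun (congrFun hi 0) 1
  have i11 := congrFun (congrFun hi 1) 1
  have j11 := congrFun (congrFun hj 1) 1
  have j01 := congrFun (congrFun hj 0) 1
  have u11 := congrFun (congrFun hu 1) 1
  have u12 := congrFun (congrFun hu 1) 2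
  rw [hact_ap] at z02 z11 z12 i01 i11 j11 j01 u11 u12
  simp only [tr1, qi, qj, Matrix.of_apply, Matrix.cons_val', Matrix.cons_val_zero, Matrix.cons_val_one,
    Matrix.cons_val, Matrix.cons_val_fin_one] at z02 z11 z12 i01 i11 j11 j01 u11 u12
  have hx : ∀ i j, X i j = X i j := fun _ _ => rfl
  generalize hp : X 0 0 = p at *
  generalize hq : X 1 1 = q at *
  generalize hr : X 2 2 = r at *
  generalize hxx : X 0 1 = x at *
  generalize hyy : X 0 2 = y at *
  generalize htt : X 1 2 = t at *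
  generalize hx' : X 1 0 = x' at *
  generalize hy' : X 2 0 = y' at *
  generalize ht' : X 2 1 = t' at *
  have hyx : y = x := by grind
  have hrq : r = q := by grind
  have hts : t' = t := by grind
  subst hyx hrq hts
  have hpq : p = r + t' := by grind
  have hxs : y ^ 2 = y := by grind
  have hx0 : y = 0 := by grind
  have hp0 : p = 0 := by grind
  have hrt : r = t' := by grind
  have hx0' : x' = 0 := by grind
  have hy0' : y' = 0 := by grind
  subst hrt hx0 hp0 hx0' hy0'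
  have h01 : r = 0 ∨ r = 1 := by
    have : r * (r - 1) = 0 := by linear_combination e11
    rcases mul_eq_zero.1 this with h | h
    · exact Or.inl h
    · exact Or.inr (sub_eq_zero.1 h)
  rcases h01 with rfl | rfl
  · left
    ext i j
    fin_cases i <;> fin_cases j <;>
      first | exact hp | exact hq | exact hr | exact hxx | exact hyy | exact htt | exact hx' | exact hy' | exact ht'
  · right
    ext i j
    fin_cases i <;> fin_cases j <;>
      first | exact hp | exact hq | exact hr | exact hxx | exact hyy | exact htt | exact hx' | exact hy' | exact ht'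

section rep
variable [Fintype F] {V : Type} [AddCommGroup V] [Module (ZMod 2) V] {ρ : Representation (ZMod 2) (G3 F) V}

theorem vadd (x : V) : x + x = 0 := by
  rw [← two_smul (ZMod 2), show (2 : ZMod 2) = 0 from rfl, zero_smul]

theorem it_it' (g : G3 F) : it (it g) = g := by
  apply Subtype.ext
  show ((it g)⁻¹ : G3 F).1.transpose = g.1
  rw [← map_inv]
  show (((g⁻¹)⁻¹ : G3 F).1.transpose).transpose = g.1
  rw [inv_inv, Matrix.transpose_transpose]

/-- `tw b` is an involution -/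
theorem tw_tw' (b : Bool) (g : G3 F) : tw b (tw b g) = g := by
  cases b
  · rfl
  · exact it_it' g

/-- unitary elements are preserved by `tw b` -/
theorem un_tw (hF : Fintype.card F = 4) (b : Bool) {g : G3 F} (h : hact g (1 : M3 F) = 1) : hact (tw b g) (1 : M3 F) = 1 := by
  cases b
  · exact h
  · have h1 : g.1 * ct g.1 = 1 := by
      have h' : g.1 * 1 * ct g.1 = 1 := h
      rwa [Matrix.mul_one] at h'
    have h3 : (g⁻¹ : G3 F).1 = ct g.1 := by
      have h5 : (g⁻¹ : G3 F).1 * g.1 = 1 := congrArg Subtype.val (inv_mul_cancel g)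
      calc (g⁻¹ : G3 F).1 = (g⁻¹ : G3 F).1 * (g.1 * ct g.1) := by rw [h1, Matrix.mul_one]
        _ = ct g.1 := by rw [← Matrix.mul_assoc, h5, Matrix.one_mul]
    show (it g).1 * 1 * ct (it g).1 = 1
    have h4 : (it g).1 = g.1.map fun a => a ^ 2 := by
      show (g⁻¹ : G3 F).1.transpose = _
      rw [h3]
      show ((g.1.map fun a => a ^ 2).transpose).transpose = _
      rw [Matrix.transpose_transpose]
    have h6 : ct (it g).1 = g.1.transpose := by
      rw [h4]
      ext i j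
      show ((g.1 j i) ^ 2) ^ 2 = g.1 j i
      rw [← pow_mul]
      exact pow_4 hF _
    rw [h6, h4, Matrix.mul_one, ← Matrix.transpose_transpose (g.1.map fun a => a ^ 2), ← Matrix.transpose_mul]
    show (g.1 * ct g.1).transpose = 1
    rw [h1, Matrix.transpose_one]

theorem it_tr (h2 : (2 : F) = 0) (s : F) : it (tr1 h2 s) = tr1 h2 s := by
  have h : (tr1 h2 s)⁻¹ = tr1 h2 s := inv_eq_of_mul_eq_one_left (by
    rw [tr_tr, show s + s = 0 by linear_combination s * h2, tr_zero])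
  apply Subtype.ext
  show ((tr1 h2 s)⁻¹ : G3 F).1.transpose = _
  rw [h]
  ext i j
  fin_cases i <;> fin_cases j <;> rfl

theorem tw_tr (h2 : (2 : F) = 0) (b : Bool) (s : F) : tw b (tr1 h2 s) = tr1 h2 s := by
  cases b
  · rfl
  · exact it_tr h2 s

/-- the cocycles vanishing on the unitary group are trivial (at the level of `u`) -/
def Good (ρ : Representation (ZMod 2) (G3 F) V) (u : G3 F) (W : Submodule (ZMod 2) V) : Prop :=
  ∀ c ∈ W, (∀ q : G3 F, hact q (1 : M3 F) = 1 → q * u = u * q → ρ q c = c) → ρ u c = c →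
    ∃ w ∈ W, (∀ g : G3 F, hact g (1 : M3 F) = 1 → ρ g w = w) ∧ ρ u w + w = c

theorem good_nine (hF : Fintype.card F = 4) (h2 : (2 : F) = 0) {w : F} (hw : w ^ 2 + w + 1 = 0) {b : Bool}
    {W : Submodule (ZMod 2) V} (h : IsNine ρ b W) : Good ρ (tr1 h2 w) W := by
  intro c hcW hq hu
  obtain ⟨φ, hadd, hinj, hmem, hact'⟩ := h
  have htt : ∀ g : G3 F, tw b (tw b g) = g := tw_tw' b
  have hmul : ∀ g h : G3 F, tw b (g * h) = tw b g * tw b h := fun g h => map_mul _ _ _
  have hρ : ∀ (g : G3 F) X, HF X → ρ (tw b g) (φ X) = φ (hact g X) := fun g X hX => by rw [hact' _ X hX, htt]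
  obtain ⟨X, hX, rfl⟩ := (hmem _).1 hcW
  have hHF : ∀ (g : G3 F) X, HF X → HF (hact g X) := fun g X hX =>
    Cfsg.Agent.H204.L34.hact_HF h2 (pow_4 hF) hX g
  have heq : ∀ X Y, HF X → HF Y → φ X = φ Y → X = Y := by
    intro X Y hX hY hXY
    have h3 : HF (X + Y) := by
      ext i j
      have h7 : (X j i) ^ 2 = X i j := congrFun (congrFun hX i) j
      have h8 : (Y j i) ^ 2 = Y i j := congrFun (congrFun hY i) j
      show (X j i + Y j i) ^ 2 = X i j + Y i j
      rw [← h7, ← h8]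
      linear_combination X j i * Y j i * h2
    have h4 : φ (X + Y) = 0 := by rw [hadd X Y hX hY, hXY, vadd]
    have h5 := hinj _ h3 h4
    ext i j
    have h6 : X i j + Y i j = 0 := congrFun (congrFun h5 i) j
    grind
  have hfix : ∀ q : G3 F, hact q (1 : M3 F) = 1 → q * tr1 h2 w = tr1 h2 w * q → hact q X = X := by
    intro q hq1 hqu
    apply heq _ _ (hHF q X hX) hX
    rw [← hρ q X hX]
    refine hq _ (un_tw hF b hq1) ?_
    have h3 := congrArg (tw b) hqu
    rwa [hmul, hmul, tw_tr] at h3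
  have hufix : hact (tr1 h2 w) X = X := by
    apply heq _ _ (hHF _ X hX) hX
    rw [← hρ _ X hX, tw_tr]
    exact hu
  rcases herm_fix h2 hw hX (hfix _ (un_tr h2) (by rw [tr_tr, tr_tr, add_comm]))
    (hfix _ (un_qi h2 hw) (qi_tr h2 hw w)) (hfix _ (un_qj h2 hw) (qj_tr h2 hw w)) hufix with rfl | rfl
  · refine ⟨0, W.zero_mem, fun g _ => map_zero _, ?_⟩
    have h4 := hadd 0 0 hX hX
    rw [add_zero, vadd] at h4
    rw [map_zero, add_zero, h4]
  · refine ⟨φ 1, (hmem _).2 ⟨1, HF_1, rfl⟩, fun g hg => by rw [hact' g 1 HF_1, un_tw hF b hg], ?_⟩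
    have h3 := hρ (tr1 h2 w) 1 HF_1
    rw [tw_tr, hact_u_one h2 hw, hadd _ _ HF_1 HF_TT1] at h3
    rw [h3, add_comm (φ 1), add_assoc, vadd, add_zero]

theorem good_sup {u : G3 F} {W₁ W₂ : Submodule (ZMod 2) V} (hi₁ : Inv ρ W₁) (hi₂ : Inv ρ W₂) (hd : W₁ ⊓ W₂ = ⊥)
    (h₁ : Good ρ u W₁) (h₂ : Good ρ u W₂) : Good ρ u (W₁ ⊔ W₂) := by
  intro c hc hq hu
  obtain ⟨x, hx, y, hy, rfl⟩ := Submodule.mem_sup.1 hc
  have key : ∀ g : G3 F, ρ g (x + y) = x + y → ρ g x = x ∧ ρ g y = y := by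
    intro g hg
    rw [map_add] at hg
    have e : ρ g x + x = ρ g y + y := by
      have : (ρ g x + x) + (ρ g y + y) = 0 := by
        calc (ρ g x + x) + (ρ g y + y) = (ρ g x + ρ g y) + (x + y) := by abel
          _ = 0 := by rw [hg, vadd]
      calc ρ g x + x = (ρ g x + x) + ((ρ g y + y) + (ρ g y + y)) := by rw [vadd, add_zero]
        _ = ((ρ g x + x) + (ρ g y + y)) + (ρ g y + y) := by abel
        _ = _ := by rw [this, zero_add]
    have hz : ρ g x + x ∈ W₁ ⊓ W₂ := ⟨W₁.add_mem (hi₁ g x hx) hx, by rw [e]; exact W₂.add_mem (hi₂ g y hy) hy⟩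
    rw [hd, Submodule.mem_bot] at hz
    have hz2 : ρ g y + y = 0 := by rw [← e, hz]
    have un : ∀ a b : V, a + b = 0 → a = b := fun a b hab => by
      calc a = a + (b + b) := by rw [vadd, add_zero]
        _ = (a + b) + b := by abel
        _ = b := by rw [hab, zero_add]
    exact ⟨un _ _ hz, un _ _ hz2⟩
  obtain ⟨w1, hw1, hf1, e1⟩ := h₁ x hx (fun q h1 h2 => (key q (hq q h1 h2)).1) (key u hu).1
  obtain ⟨w2, hw2, hf2, e2⟩ := h₂ y hy (fun q h1 h2 => (key q (hq q h1 h2)).2) (key u hu).2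
  refine ⟨w1 + w2, Submodule.add_mem_sup hw1 hw2, fun g hg => by rw [map_add, hf1 g hg, hf2 g hg], ?_⟩
  rw [map_add, ← e1, ← e2]
  abel

/-- **`alpha`**, general form -/
theorem alpha_good (hF : Fintype.card F = 4) (h2 : (2 : F) = 0) {w : F} (hw : w ^ 2 + w + 1 = 0)
    {W : Submodule (ZMod 2) V} (h : Good ρ (tr1 h2 w) W) {m : V}
    (hm : ∀ g, ρ g m + m ∈ W) (hR : ∀ g, hact g (1 : M3 F) = 1 → ρ g m = m) :
    ∃ w ∈ W, (∀ g, hact g (1 : M3 F) = 1 → ρ g w = w) ∧ ∀ g, ρ g (m + w) = m + w := by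
  obtain ⟨x, hx, hxR, hxu⟩ := h (ρ (tr1 h2 w) m + m) (hm _) (fun q hq hqu => by
    rw [map_add, ← Module.End.mul_apply, ← map_mul, hqu, map_mul, Module.End.mul_apply, hR q hq]) (by
    rw [map_add, ← Module.End.mul_apply, ← map_mul, tr_tr, show w + w = 0 by linear_combination w * h2, tr_zero, map_one,
      Module.End.one_apply, add_comm])
  refine ⟨x, hx, hxR, ?_⟩
  let K : Subgroup (G3 F) :=
    { carrier := {g | ρ g (m + x) = m + x}
      mul_mem' := fun {a b} ha hb => by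
        show ρ (a * b) (m + x) = m + x
        rw [map_mul, Module.End.mul_apply, hb, ha]
      one_mem' := by
        show ρ 1 (m + x) = m + x
        rw [map_one, Module.End.one_apply]
      inv_mem' := fun {a} ha => by
        show ρ a⁻¹ (m + x) = m + x
        have ha' : ρ a (m + x) = m + x := ha
        calc ρ a⁻¹ (m + x) = ρ a⁻¹ (ρ a (m + x)) := by rw [ha']
          _ = m + x := by
            rw [← Module.End.mul_apply, ← map_mul, inv_mul_cancel, map_one, Module.End.one_apply] }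
  have hK := gen hF h2 hw K (fun g hg => by
    show ρ g (m + x) = m + x
    rw [map_add, hR g hg, hxR g hg]) (by
    show ρ _ (m + x) = m + x
    rw [map_add]
    have e : ρ (tr1 h2 w) x = ρ (tr1 h2 w) m + m + x := by
      rw [← hxu, add_assoc, vadd, add_zero]
    rw [e]
    calc ρ (tr1 h2 w) m + (ρ (tr1 h2 w) m + m + x) = (ρ (tr1 h2 w) m + ρ (tr1 h2 w) m) + (m + x) := by abel
      _ = m + x := by rw [vadd, zero_add])
  intro g
  have : g ∈ K := by rw [hK]; trivial
  exact this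

/-- **`alpha`**: a vector fixed by the unitary group, fixed by everything modulo a submodule of type 9 -/
theorem alpha (hF : Fintype.card F = 4) {b : Bool} {W : Submodule (ZMod 2) V} (h : IsNine ρ b W) {m : V}
    (hm : ∀ g, ρ g m + m ∈ W) (hR : ∀ g, hact g (1 : M3 F) = 1 → ρ g m = m) :
    ∃ w ∈ W, (∀ g, hact g (1 : M3 F) = 1 → ρ g w = w) ∧ ∀ g, ρ g (m + w) = m + w := by
  obtain ⟨w, hw⟩ := exists_om hF
  exact alpha_good hF (two_z hF) hw (good_nine hF (two_z hF) hw h) hm hR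

theorem inv_nine (hF : Fintype.card F = 4) {b : Bool} {W : Submodule (ZMod 2) V} (h : IsNine ρ b W) : Inv ρ W := by
  obtain ⟨φ, hadd, hinj, hmem, hact'⟩ := h
  intro g v hv
  obtain ⟨X, hX, rfl⟩ := (hmem _).1 hv
  rw [hact' g X hX]
  exact (hmem _).2 ⟨_, Cfsg.Agent.H204.L34.hact_HF (two_z hF) (pow_4 hF) hX _, rfl⟩

/-- **`alpha2`**: the same for the direct sum of two submodules of type 9 -/
theorem alpha2 (hF : Fintype.card F = 4) {b₁ b₂ : Bool} {W₁ W₂ : Submodule (ZMod 2) V} (h₁ : IsNine ρ b₁ W₁)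
    (h₂ : IsNine ρ b₂ W₂) (hd : W₁ ⊓ W₂ = ⊥) {m : V}
    (hm : ∀ g, ρ g m + m ∈ W₁ ⊔ W₂) (hR : ∀ g, hact g (1 : M3 F) = 1 → ρ g m = m) :
    ∃ w ∈ W₁ ⊔ W₂, (∀ g, hact g (1 : M3 F) = 1 → ρ g w = w) ∧ ∀ g, ρ g (m + w) = m + w := by
  obtain ⟨w, hw⟩ := exists_om hF
  exact alpha_good hF (two_z hF) hw (good_sup (inv_nine hF h₁) (inv_nine hF h₂) hd
    (good_nine hF (two_z hF) hw h₁) (good_nine hF (two_z hF) hw h₂)) hm hR

/-- without fixed vectors the vectors fixed by the unitary group in an extension of a sum of nines by trivial modules lie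
in the sum -/
theorem alpha2_mem (hF : Fintype.card F = 4) {b₁ b₂ : Bool} {W₁ W₂ : Submodule (ZMod 2) V} (h₁ : IsNine ρ b₁ W₁)
    (h₂ : IsNine ρ b₂ W₂) (hd : W₁ ⊓ W₂ = ⊥) (h0 : fixAll ρ = ⊥) {m : V}
    (hm : ∀ g, ρ g m + m ∈ W₁ ⊔ W₂) (hR : ∀ g, hact g (1 : M3 F) = 1 → ρ g m = m) : m ∈ W₁ ⊔ W₂ := by
  obtain ⟨w, hw, -, hf⟩ := alpha2 hF h₁ h₂ hd hm hR
  have h3 : m + w ∈ fixAll ρ := hf
  rw [h0, Submodule.mem_bot] at h3
  have h4 : m = w := by
    calc m = m + (w + w) := by rw [vadd, add_zero]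
      _ = (m + w) + w := by abel
      _ = w := by rw [h3, zero_add]
  rw [h4]
  exact hw

theorem alpha_mem (hF : Fintype.card F = 4) {b : Bool} {W : Submodule (ZMod 2) V} (h : IsNine ρ b W)
    (h0 : fixAll ρ = ⊥) {m : V} (hm : ∀ g, ρ g m + m ∈ W) (hR : ∀ g, hact g (1 : M3 F) = 1 → ρ g m = m) : m ∈ W := by
  obtain ⟨w, hw, -, hf⟩ := alpha hF h hm hR
  have h3 : m + w ∈ fixAll ρ := hf
  rw [h0, Submodule.mem_bot] at h3
  have h4 : m = w := by
    calc m = m + (w + w) := by rw [vadd, add_zero]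
      _ = (m + w) + w := by abel
      _ = w := by rw [h3, zero_add]
  rw [h4]
  exact hw

end rep

end Cfsg.Agent.H20.LF
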