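import Cfsg.Agent.H201.L34.Sq

/-!
# S5917, END of type D: the fixed algebra is abelian (helper20)

`B` : at most 16 elements, closed under bracket and restricted square, `x⁽⁴⁾ + x⁽²⁾ + x = 0` for `x ∈ B`; then `[B, B] = 0`.
-/

set_option autoImplicit false
set_option linter.unusedTactic false
set_option linter.unreachableTactic false

namespace Cfsg.Agent.H20.LF

/-- abstract form -/
theorem ab_core {V : Type*} [AddCommGroup V] (h2 : ∀ v : V, v + v = 0) (A : V →+ V) (x s : V) (B : AddSubgroup V)
    [Finite B] (hc : Nat.card B < 20) (hx : x ∈ B) (hs : s ∈ B) (hx0 : x ≠ 0) (hs0 : s ≠ 0) (hxs : x ≠ s)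
    (Ax : A x = 0) (As : A s = 0) (hAB : ∀ y ∈ B, A y ∈ B) (h4 : ∀ y ∈ B, A (A (A (A y))) + A (A y) + A y = 0) :
    ∀ y ∈ B, A y = 0 := by
  intro y hy
  by_contra hu
  have eqz : ∀ a b : V, a + b = 0 → a = b := fun a b h => by
    calc a = a + (b + b) := by rw [h2, add_zero]
      _ = (a + b) + b := by abel
      _ = b := by rw [h, zero_add]
  have zeq : ∀ a b : V, a = b → a + b = 0 := fun a b h => by rw [h, h2]
  set u := A y with hudef
  have r3 : A (A (A u)) = A u + u := by
    apply eqz
    have := h4 y hy
    rw [← this, ← hudef]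
    abel
  have hAu : A u ≠ 0 := by
    intro h
    rw [h, map_zero, map_zero, zero_add] at r3
    exact hu r3.symm
  have hAAu : A (A u) ≠ 0 := by
    intro h
    rw [h, map_zero] at r3
    have h5 : A u = u := eqz _ _ r3.symm
    rw [h5, h5] at h
    exact hu h
  have h1 : A u ≠ u := by
    intro h
    rw [h, h, h, h2] at r3
    exact hu r3
  have h3 : A (A u) ≠ u := by
    intro h
    rw [h] at r3
    have : u = 0 := by
      calc u = (A u + A u) + u := by rw [h2, zero_add]
        _ = A u + (A u + u) := by abel
        _ = A u + A u := by rw [← r3]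
        _ = 0 := h2 _
    exact hu this
  have h5 : A (A u) ≠ A u := by
    intro h
    have e : A (A (A u)) = A u := by rw [h, h]
    rw [e] at r3
    have : u = 0 := by
      calc u = (A u + A u) + u := by rw [h2, zero_add]
        _ = A u + (A u + u) := by abel
        _ = A u + A u := by rw [← r3]
        _ = 0 := h2 _
    exact hu this
  have k0 : A u + u ≠ 0 := fun h => h1 (eqz _ _ h)
  have k1 : A u + u ≠ u := fun h => hAu (by
    calc A u = A u + u + u := by rw [add_assoc, h2, add_zero]
      _ = 0 := by rw [h, h2])
  have k2 : A u + u ≠ A u := fun h => hu (by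
    calc u = A u + (A u + u) := by rw [← add_assoc, h2, zero_add]
      _ = 0 := by rw [h, h2])
  have k3 : A u + u ≠ A (A u) := by
    intro h
    have e : A (A (A u)) = A (A u) := by rw [r3, h]
    -- A (A (A u)) + A (A u) = A (A (A u) + A u) = 0
    have e2 : A (A u) = A (A (A u)) := e.symm
    have e3 : A (A (A u)) = A u + u := r3
    -- apply `A` to `h`
    have e4 : A (A u) + A u = A (A (A u)) := by
      have := congrArg A h
      rwa [map_add] at this
    have e5 : A u = 0 := by
      calc A u = (A (A u) + A (A u)) + A u := by rw [h2, zero_add]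
        _ = A (A u) + (A (A u) + A u) := by abel
        _ = A (A u) + A (A (A u)) := by rw [e4]
        _ = 0 := by rw [e, h2]
    exact hAu e5
  let kk : Fin 4 → V := ![0, x, s, x + s]
  let pp : Fin 5 → V := ![0, y, u, A u, A (A u)]
  let qq : Fin 5 → V := ![0, u, A u, A (A u), A u + u]
  have hpq : ∀ i, A (pp i) = qq i := by
    intro i
    fin_cases i
    · exact map_zero A
    · rfl
    · rfl
    · rfl
    · exact r3
  have hkA : ∀ i, A (kk i) = 0 := by
    intro i
    fin_cases i
    · exact map_zero A
    · exact Ax
    · exact As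
    · show A (x + s) = 0
      rw [map_add, Ax, As, add_zero]
  have hkB : ∀ i, kk i ∈ B := by
    intro i
    fin_cases i
    · exact B.zero_mem
    · exact hx
    · exact hs
    · exact B.add_mem hx hs
  have hpB : ∀ i, pp i ∈ B := by
    intro i
    fin_cases i
    · exact B.zero_mem
    · exact hy
    · exact hAB _ hy
    · exact hAB _ (hAB _ hy)
    · exact hAB _ (hAB _ (hAB _ hy))
  have hqi : ∀ i j, qq i = qq j → i = j := by
    intro i j h
    fin_cases i <;> fin_cases j <;> first | rfl | (exfalso; simp [qq] at h) | skip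
    all_goals first
      | exact absurd h.symm hu | exact absurd h hu | exact absurd h hAu | exact absurd h.symm hAu
      | exact absurd h hAAu | exact absurd h.symm hAAu | exact absurd h k0 | exact absurd h.symm k0
      | exact absurd h h1 | exact absurd h.symm h1 | exact absurd h h3 | exact absurd h.symm h3
      | exact absurd h h5 | exact absurd h.symm h5 | exact absurd h k1 | exact absurd h.symm k1
      | exact absurd h k2 | exact absurd h.symm k2 | exact absurd h k3 | exact absurd h.symm k3
      | skip
  have hki : ∀ i j, kk i = kk j → i = j := by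
    have a1 : x + s ≠ 0 := fun h => hxs (eqz _ _ h)
    have a2 : x + s ≠ x := fun h => hs0 (by
      calc s = x + (x + s) := by rw [← add_assoc, h2, zero_add]
        _ = 0 := by rw [h, h2])
    have a3 : x + s ≠ s := fun h => hx0 (by
      calc x = x + s + s := by rw [add_assoc, h2, add_zero]
        _ = 0 := by rw [h, h2])
    intro i j h
    fin_cases i <;> fin_cases j <;> first | rfl | (exfalso; simp [kk] at h) | skip
    all_goals first
      | exact absurd h hx0 | exact absurd h.symm hx0 | exact absurd h hs0 | exact absurd h.symm hs0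
      | exact absurd h hxs | exact absurd h.symm hxs | exact absurd h a1 | exact absurd h.symm a1
      | exact absurd h a2 | exact absurd h.symm a2 | exact absurd h a3 | exact absurd h.symm a3
      | skip
  have hinj : Function.Injective (fun p : Fin 4 × Fin 5 => (⟨kk p.1 + pp p.2, B.add_mem (hkB _) (hpB _)⟩ : B)) := by
    rintro ⟨i, j⟩ ⟨i', j'⟩ h
    have h6 : kk i + pp j = kk i' + pp j' := congrArg Subtype.val h
    have h7 : qq j = qq j' := by
      have := congrArg A h6
      rwa [map_add, map_add, hkA, hkA, zero_add, zero_add, hpq, hpq] at this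
    have h8 : j = j' := hqi _ _ h7
    subst h8
    have h9 : i = i' := hki _ _ (add_right_cancel h6)
    rw [h9]
  have h10 := Nat.card_le_card_of_injective _ hinj
  rw [Nat.card_prod, Nat.card_fin, Nat.card_fin] at h10
  omega

open Cfsg Cfsg.Lie Cfsg.Lie.ChevalleyDatum
open Cfsg.Agent.H939.L64 Cfsg.Agent.H413.L16 Cfsg.Agent.H201.L34

/-- **the fixed algebra is abelian** -/
theorem b_abelian (B : AddSubgroup LK) [Finite B] (hc : Nat.card B < 20) (hbr : ∀ x ∈ B, ∀ y ∈ B, brK x y ∈ B)
    (hsq : ∀ x ∈ B, H201.L34.sq x ∈ B) (h : ∀ x ∈ B, H201.L34.sq (H201.L34.sq x) + H201.L34.sq x + x = 0) {x y : LK} (hx : x ∈ B) (hy : y ∈ B) :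
    brK x y = 0 := by
  by_cases hx0 : x = 0
  · rw [hx0, br_zero_l]
  have e := h x hx
  have hs0 : H201.L34.sq x ≠ 0 := by
    intro h0
    rw [h0, sq_zero, add_zero, zero_add] at e
    exact hx0 e
  have hxs : x ≠ H201.L34.sq x := by
    intro h0
    rw [← h0, ← h0, add_self', zero_add] at e
    exact hx0 e
  let A : LK →+ LK :=
    { toFun := fun y => brK x y
      map_zero' := br_zero_r x
      map_add' := fun y z => br_add_r x y z }
  exact ab_core add_self' A x (H201.L34.sq x) B hc hx (hsq x hx) hx0 hs0 hxs (br_self' x) (br_x_sq x) (fun y hy => hbr x hx y hy)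
    (fun y _ => by
      show brK x (brK x (brK x (brK x y))) + brK x (brK x y) + brK x y = 0
      rw [← br_sq x (brK x (brK x y)), ← br_sq x y, ← br_sq (H201.L34.sq x) y, ← br_add_l, ← br_add_l, e, br_zero_l]) y hy

end Cfsg.Agent.H20.LF
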