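import Cfsg.Agent.H942.DF.Sh2
import Cfsg.Agent.H20.LF.BAb

/-!
# S5917, END of type D: the fixed algebra has at most 16 elements (helper20)
-/

set_option autoImplicit false
set_option maxRecDepth 100000

namespace Cfsg.Agent.H20.LF

open Cfsg Cfsg.Lie Cfsg.Lie.ChevalleyDatum
open Cfsg.Agent.ChevalleyStructure.Columns (car cor)
open Cfsg.Agent.H939.L64 Cfsg.Agent.H413.L16 Cfsg.Agent.H201.L34 Cfsg.Agent.H251.L34 Cfsg.Agent.H942.DF
open Cfsg.Agent.H876.L64
open Cfsg.Agent.H413.L64 (charKK)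

section semi

variable {K V : Type*} [Field K] [AddCommGroup V] [Module K V]

/-- fixed vectors of a semilinear map, independent over `𝔽₂` modulo a stable subspace, are independent over `K` -/
theorem fix_indep (F : V →+ V) (hF : ∀ (c : K) v, F (c • v) = c ^ 2 • F v) (P : Submodule K V) (hP : ∀ v ∈ P, F v ∈ P)
    {n : ℕ} (x : Fin n → V) (hx : ∀ i, F (x i) = x i)
    (hind : ∀ a : Fin n → Prop, ∀ [DecidablePred a], (∑ i, (if a i then (1 : K) else 0) • x i) ∈ P → ∀ i, ¬ a i) :
    ∀ c : Fin n → K, ∑ i, c i • x i ∈ P → c = 0 := by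
  classical
  suffices H : ∀ (m : ℕ) (c : Fin n → K), (Finset.univ.filter fun i => c i ≠ 0).card ≤ m → ∑ i, c i • x i ∈ P → c = 0 from
    fun c hc => H _ c le_rfl hc
  intro m
  induction m with
  | zero =>
    intro c hm _
    rw [Nat.le_zero, Finset.card_eq_zero, Finset.filter_eq_empty_iff] at hm
    funext i
    by_contra h
    exact hm (Finset.mem_univ i) h
  | succ m ih =>
    intro c hm hc
    by_contra hne
    obtain ⟨j, hj⟩ : ∃ j, c j ≠ 0 := by
      by_contra h
      push Not at h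
      exact hne (funext h)
    -- scale
    let d : Fin n → K := fun i => (c j)⁻¹ * c i
    have hdj : d j = 1 := inv_mul_cancel₀ hj
    have hd : ∑ i, d i • x i ∈ P := by
      have e : ∑ i, d i • x i = (c j)⁻¹ • ∑ i, c i • x i := by
        rw [Finset.smul_sum]
        exact Finset.sum_congr rfl fun i _ => mul_smul _ _ _
      rw [e]
      exact P.smul_mem _ hc
    have hd2 : ∑ i, d i ^ 2 • x i ∈ P := by
      have e : F (∑ i, d i • x i) = ∑ i, d i ^ 2 • x i := by
        rw [map_sum]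
        exact Finset.sum_congr rfl fun i _ => by rw [hF, hx]
      rw [← e]
      exact hP _ hd
    have hs : ∑ i, (d i ^ 2 - d i) • x i ∈ P := by
      have e : ∑ i, (d i ^ 2 - d i) • x i = ∑ i, d i ^ 2 • x i - ∑ i, d i • x i := by
        rw [← Finset.sum_sub_distrib]
        exact Finset.sum_congr rfl fun i _ => sub_smul _ _ _
      rw [e]
      exact P.sub_mem hd2 hd
    have hz : (fun i => d i ^ 2 - d i) = 0 := by
      refine ih _ ?_ hs
      have hsub : (Finset.univ.filter fun i => d i ^ 2 - d i ≠ 0) ⊂ Finset.univ.filter fun i => c i ≠ 0 := by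
        refine Finset.ssubset_iff_subset_ne.2 ⟨?_, ?_⟩
        · intro i hi
          rw [Finset.mem_filter] at hi ⊢
          refine ⟨Finset.mem_univ _, fun h0 => hi.2 ?_⟩
          show (((c j)⁻¹ * c i) ^ 2 - (c j)⁻¹ * c i) = 0
          rw [h0, mul_zero]
          ring
        · intro h
          have : j ∈ Finset.univ.filter fun i => d i ^ 2 - d i ≠ 0 := by
            rw [h, Finset.mem_filter]
            exact ⟨Finset.mem_univ _, hj⟩
          rw [Finset.mem_filter] at this
          apply this.2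
          rw [hdj]
          ring
      have := Finset.card_lt_card hsub
      omega
    -- all `d i` are `0` or `1`
    have h01 : ∀ i, d i = if d i = 1 then (1 : K) else 0 := by
      intro i
      have h1 : d i ^ 2 - d i = 0 := congrFun hz i
      have h2 : d i * (d i - 1) = 0 := by linear_combination h1
      rcases mul_eq_zero.1 h2 with h | h
      · rw [h, if_neg (zero_ne_one)]
      · rw [sub_eq_zero.1 h, if_pos rfl]
    have h3 := hind (fun i => d i = 1) (by
      have e : ∑ i, (if d i = 1 then (1 : K) else 0) • x i = ∑ i, d i • x i :=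
        Finset.sum_congr rfl fun i _ => by rw [← h01 i]
      rw [e]
      exact hd) j
    exact h3 hdj

/-- the number of fixed vectors -/
theorem card_core (F : V →+ V) (hF : ∀ (c : K) v, F (c • v) = c ^ 2 • F v) (P M : Submodule K V) (hP : ∀ v ∈ P, F v ∈ P)
    {r : ℕ} (q : V →ₗ[K] (Fin r → K)) (hq : ∀ v ∈ M, q v = 0 → v ∈ P) (h2 : ∀ v : V, v + v = 0)
    (B : AddSubgroup V) [Finite B] (hB : ∀ x ∈ B, x ∈ M ∧ F x = x) (h0 : ∀ x ∈ B, x ∈ P → x = 0) :
    Nat.card B ≤ 2 ^ r := by
  classical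
  let _ : Module (ZMod 2) B := AddCommGroup.zmodModule (fun x => by
    apply Subtype.ext
    rw [two_nsmul]
    exact h2 _)
  have : Module.Finite (ZMod 2) B := Module.Finite.of_finite
  rw [Module.natCard_eq_pow_finrank (K := ZMod 2) (V := B), Nat.card_zmod]
  refine Nat.pow_le_pow_right (by norm_num) ?_
  by_contra hlt
  push Not at hlt
  set b := Module.finBasis (ZMod 2) B with hb
  let e : Fin (r + 1) → Fin (Module.finrank (ZMod 2) B) := Fin.castLE hlt
  have he : Function.Injective e := Fin.castLE_injective hlt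
  have hli : LinearIndependent (ZMod 2) (fun i => b (e i)) := b.linearIndependent.comp e he
  let x : Fin (r + 1) → V := fun i => (b (e i) : V)
  have hdep : ¬ LinearIndependent K (fun i => q (x i)) := by
    intro h
    have h1 := h.fintype_card_le_finrank
    rw [Fintype.card_fin, Module.finrank_fintype_fun_eq_card, Fintype.card_fin] at h1
    omega
  rw [Fintype.not_linearIndependent_iff] at hdep
  obtain ⟨c, hc, j, hj⟩ := hdep
  have hmem : ∑ i, c i • x i ∈ P := by
    apply hq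
    · exact M.sum_mem fun i _ => M.smul_mem _ (hB _ (b (e i)).2).1
    · rw [map_sum]
      simpa only [map_smul] using hc
  have := fix_indep F hF P hP x (fun i => (hB _ (b (e i)).2).2) (fun a _ ha => by
    have hs : ∑ i, (if a i then (1 : K) else 0) • x i = ((∑ i, (if a i then b (e i) else 0) : B) : V) := by
      rw [AddSubgroup.val_finsetSum]
      refine Finset.sum_congr rfl fun i _ => ?_
      split_ifs
      · exact one_smul _ _
      · exact zero_smul _ _
    rw [hs] at ha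
    have hz : (∑ i, (if a i then b (e i) else 0) : B) = 0 := Subtype.ext (h0 _ (Subtype.mem _) ha)
    have hz' : ∑ i, (if a i then (1 : ZMod 2) else 0) • b (e i) = 0 := by
      rw [← hz]
      refine Finset.sum_congr rfl fun i _ => ?_
      split_ifs
      · exact one_smul _ _
      · exact zero_smul _ _
    have h5 := Fintype.linearIndependent_iff.1 hli _ hz'
    intro i hi
    have h6 := h5 i
    rw [if_pos hi] at h6
    exact one_ne_zero h6) c hmem
  exact hj (congrFun this j)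

end semi

/-! ### the frame -/

variable {t1 t2 : ↥(chevE8.group KK)} {ζ : KK}

theorem er_Mp (h : EF t1 t2 ζ) (b : Fin 24) : er (dr b) ∈ Mp t1 t2 ζ := by
  have hb : dr b < chevE8.nroots := by rw [nr]; exact dr_lt b
  obtain ⟨i, hi⟩ := odd_car ⟨dr b, hb⟩
  refine Submodule.subset_span ⟨hv (Pi.single (M := fun _ => KK) i 1), er (dr b), h.hvM _, h.drM b, ?_⟩
  funext j
  rcases j with j | s
  · rw [er_inl]
    unfold hv
    rw [h_br]
    rfl
  · rw [br_hv_inr, er_inr]
    by_cases hs : dr b = s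
    · rw [if_pos hs, mul_one, Finset.sum_eq_single i]
      · rw [Pi.single_eq_same, one_mul, ← hs]
        exact cast_odd hi
      · intro k _ hk
        rw [Pi.single_eq_of_ne hk, zero_mul]
      · intro hk; exact absurd (Finset.mem_univ _) hk
    · rw [if_neg hs, mul_zero]

theorem i0 : (0 : ℕ) < chevE8.rank := by rw [rk8]; omega

/-- the coordinates modulo the derived algebra -/
noncomputable def qM : LK →ₗ[KK] (Fin 4 → KK) where
  toFun v := fun m => v (Sum.inl (Fin.cast rk8.symm ((![0, 5, 6, 7] : Fin 4 → Fin 8) m)))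
  map_add' _ _ := rfl
  map_smul' _ _ := rfl

theorem cor_simple : ∀ i : Fin 8, cor chevE8 141 i = (![0, 1, 0, 0, 0, 0, 0, 0] : Fin 8 → ℤ) i ∧
    cor chevE8 135 i = (![0, 0, 1, 0, 0, 0, 0, 0] : Fin 8 → ℤ) i ∧
    cor chevE8 130 i = (![0, 0, 0, 1, 0, 0, 0, 0] : Fin 8 → ℤ) i ∧
    cor chevE8 126 i = (![0, 0, 0, 0, 1, 0, 0, 0] : Fin 8 → ℤ) i := by decide +kernel

/-- the fixed algebra as a submodule -/
noncomputable def MM (t1 t2 : ↥(chevE8.group KK)) : Submodule KK LK where
  carrier := {v | aK t1 v = v ∧ aK t2 v = v}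
  add_mem' {a b} ha hb := ⟨by rw [aK_add, ha.1, hb.1], by rw [aK_add, ha.2, hb.2]⟩
  zero_mem' := ⟨aK_zero _, aK_zero _⟩
  smul_mem' c v hv' := ⟨by rw [aK_smul, hv'.1], by rw [aK_smul, hv'.2]⟩

theorem VV0 {v : LK} : VV t1 t2 ζ 0 0 v ↔ aK t1 v = v ∧ aK t2 v = v := by
  unfold VV
  rw [ZMod.val_zero, pow_zero, one_smul]

theorem hv_simple (c : Fin chevE8.rank → KK) (h0 : c (Fin.cast rk8.symm 0) = 0) (h5 : c (Fin.cast rk8.symm 5) = 0)
    (h6 : c (Fin.cast rk8.symm 6) = 0) (h7 : c (Fin.cast rk8.symm 7) = 0) :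
    hv c = c (Fin.cast rk8.symm 1) • hr 141 + c (Fin.cast rk8.symm 2) • hr 135 + c (Fin.cast rk8.symm 3) • hr 130 +
      c (Fin.cast rk8.symm 4) • hr 126 := by
  funext j
  rcases j with i | s
  · obtain ⟨m, rfl⟩ : ∃ m : Fin 8, i = Fin.cast rk8.symm m := ⟨Fin.cast rk8 i, rfl⟩
    have e := cor_simple m
    show c (Fin.cast rk8.symm m) = c (Fin.cast rk8.symm 1) * ((cor chevE8 141 m : ℤ) : KK) +
      c (Fin.cast rk8.symm 2) * ((cor chevE8 135 m : ℤ) : KK) + c (Fin.cast rk8.symm 3) * ((cor chevE8 130 m : ℤ) : KK) +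
      c (Fin.cast rk8.symm 4) * ((cor chevE8 126 m : ℤ) : KK)
    rw [e.1, e.2.1, e.2.2.1, e.2.2.2]
    fin_cases m
    · simpa using h0
    · simp
    · simp
    · simp
    · simp
    · simpa using h5
    · simpa using h6
    · simpa using h7
  · show (0 : KK) = _ * 0 + _ * 0 + _ * 0 + _ * 0
    ring

theorem mem_Mp_of (h : EF t1 t2 ζ) {v : LK} (hm : v ∈ MM t1 t2) (hq : qM v = 0) : v ∈ Mp t1 t2 ζ := by
  have hm' : VV t1 t2 ζ 0 0 v := VV0.2 hm
  have e : v = hv (fun i => v (Sum.inl i)) + ∑ s : Fin chevE8.nroots, v (Sum.inr s) • er s := by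
    funext j
    rw [Pi.add_apply, Finset.sum_apply]
    rcases j with i | s
    · rw [hv_inl, Finset.sum_eq_zero, add_zero]
      intro s _
      rw [Pi.smul_apply, er_inl, smul_zero]
    · rw [hv_inr, zero_add, Finset.sum_eq_single s]
      · rw [Pi.smul_apply, er_inr, if_pos rfl, smul_eq_mul, mul_one]
      · intro b _ hb
        rw [Pi.smul_apply, er_inr, if_neg (fun h => hb (Fin.ext h)), smul_zero]
      · intro h; exact absurd (Finset.mem_univ _) h
  rw [e]
  refine add_mem ?_ (sum_mem fun s _ => ?_)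
  · rw [hv_simple _ (congrFun hq 0) (congrFun hq 1) (congrFun hq 2) (congrFun hq 3)]
    have d := dr_tab
    have e1 := h.hr_mem 18
    have e2 := h.hr_mem 15
    have e3 := h.hr_mem 13
    have e4 := h.hr_mem 12
    rw [d.1] at e1
    rw [d.2.1] at e2
    rw [d.2.2.1] at e3
    rw [d.2.2.2] at e4
    exact add_mem (add_mem (add_mem (Submodule.smul_mem _ _ e1) (Submodule.smul_mem _ _ e2)) (Submodule.smul_mem _ _ e3))
      (Submodule.smul_mem _ _ e4)
  · by_cases h0 : v (Sum.inr s) = 0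
    · rw [h0, zero_smul]; exact zero_mem _
    · obtain ⟨e1, e3⟩ := h.root hm' h0
      obtain ⟨b, hb⟩ := zero_cases (slt s) e1 e3
      rw [hb]
      exact Submodule.smul_mem _ _ (er_Mp h b)

/-- **the number of fixed vectors modulo the derived algebra** -/
theorem b_card (h : EF t1 t2 ζ) (F : LK →+ LK) (hF : ∀ (c : KK) v, F (c • v) = c ^ 2 • F v)
    (hP : ∀ v ∈ Mp t1 t2 ζ, F v ∈ Mp t1 t2 ζ) (B : AddSubgroup LK) [Finite B]
    (hB : ∀ x ∈ B, VV t1 t2 ζ 0 0 x ∧ F x = x) (h0 : ∀ x ∈ B, x ∈ Mp t1 t2 ζ → x = 0) : Nat.card B ≤ 16 :=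
  card_core F hF (Mp t1 t2 ζ) (MM t1 t2) hP qM (fun _ hv' hq => mem_Mp_of h hv' hq) add_self' B
    (fun x hx => ⟨VV0.1 (hB x hx).1, (hB x hx).2⟩) h0

/-- **the fixed algebra is abelian, in the frame** -/
theorem b_abelian_frame (h : EF t1 t2 ζ) (F : LK →+ LK) (hF : ∀ (c : KK) v, F (c • v) = c ^ 2 • F v)
    (hP : ∀ v ∈ Mp t1 t2 ζ, F v ∈ Mp t1 t2 ζ) (B : AddSubgroup LK) [Finite B]
    (hB : ∀ x ∈ B, VV t1 t2 ζ 0 0 x ∧ F x = x) (h0 : ∀ x ∈ B, x ∈ Mp t1 t2 ζ → x = 0)
    (hbr : ∀ x ∈ B, ∀ y ∈ B, brK x y ∈ B) (hsq : ∀ x ∈ B, H201.L34.sq x ∈ B)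
    (h4 : ∀ x ∈ B, H201.L34.sq (H201.L34.sq x) + H201.L34.sq x + x = 0) {x y : LK} (hx : x ∈ B) (hy : y ∈ B) :
    brK x y = 0 :=
  b_abelian B (lt_of_le_of_lt (b_card h F hF hP B hB h0) (by norm_num)) hbr hsq h4 hx hy

end Cfsg.Agent.H20.LF
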